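import Mathlib
import Cfsg.Prelude.Def_Blocks
import Cfsg.Agent.Lib.Blocks.SectionNorm
import Cfsg.Agent.Lib.PLocal.Cores

/-!
Sums over the section of a p-element whose centralizer has a normal p-complement.
-/

set_option autoImplicit false
set_option linter.all false

namespace Cfsg.Agent.Components.PairCount

open Cfsg.Agent.Characters Cfsg.Agent.Blocks
open scoped ComplexConjugate

universe u

local notation "C[" x "]" => Subgroup.centralizer ({x} : Set _)

variable {G : Type u} [Group G] [Finite G] {p : ℕ} {M : Ideal Cfsg.AlgInt}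

open scoped Classical in
/-- Members of the principal block are constant on `x θ`; the others sum to zero over it. -/
theorem section_value (hM : Cfsg.IsPModular p M) {x : G} (hx : ∃ k : ℕ, orderOf x = p ^ k)
    {θ : Subgroup (C[x])} [θ.Normal] (hθ : ¬ p ∣ Nat.card θ)
    (hidx : ∃ k : ℕ, θ.index = p ^ k) [Fintype θ] (χ : Cfsg.IrrCharacter G) :
    ∑ k : θ, (χ : G → ℂ) (x * ((k : C[x]) : G)) =
      if χ ∈ Cfsg.principalBlock M G then (Nat.card θ : ℂ) * (χ : G → ℂ) x else 0 := by
  letI := Fintype.ofFinite G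
  letI := Fintype.ofFinite (C[x])
  haveI := Fintype.ofFinite (Cfsg.IrrCharacter (C[x]))
  haveI := fact_prime_of_pm hM
  set b₀ := Cfsg.principalBlock M C[x] with hb₀
  have hb₀B : Cfsg.IsPBlock M b₀ := isPBlock_principal M _
  have hmem : ∀ η : Cfsg.IrrCharacter C[x], η ∈ b₀ ↔
      ∀ n ∈ θ, (η : C[x] → ℂ) n = (η : C[x] → ℂ) 1 := sameBlock_one_iff hM hθ hidx
  have hreg : ∀ k ∈ θ, ¬ p ∣ orderOf k := fun k hk hd => hθ (hd.trans (by
    have := orderOf_dvd_natCard (⟨k, hk⟩ : θ)
    rwa [Subgroup.orderOf_mk] at this))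
  set f := fun c : C[x] => (χ : G → ℂ) (x * (c : G)) with hf
  by_cases hχ : χ ∈ Cfsg.principalBlock M G
  · rw [if_pos hχ]
    have hconst : ∀ k : θ, f k = (χ : G → ℂ) x := by
      intro k
      have h1 : Cfsg.blockPart b₀ f k = Cfsg.blockPart b₀ f 1 := by
        simp only [Cfsg.blockPart]
        refine finsum_mem_congr rfl fun η hη => ?_
        rw [(hmem η).1 hη k k.2]
      have h2 : f k = Cfsg.blockPart b₀ f k := value_eq_principal_part hM hx hχ (hreg k k.2)
      have h3 : f 1 = Cfsg.blockPart b₀ f 1 := value_eq_principal_part hM hx hχ (hreg 1 θ.one_mem)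
      rw [h2, h1, ← h3, hf]; simp
    rw [Finset.sum_congr rfl fun k _ => hconst k, Finset.sum_const, Finset.card_univ,
      Nat.card_eq_fintype_card, nsmul_eq_mul]
  · rw [if_neg hχ]
    have hzero : Cfsg.blockPart b₀ f 1 = 0 := by
      refine blockPart_eq_zero_of_not_induced hM hx (isPBlock_blockOf M χ) (mem_blockOf_self hM χ)
        hb₀B (fun hi => hχ ?_) (hreg 1 θ.one_mem)
      have hC' : Subgroup.centralizer ((Subgroup.zpowers x : Subgroup G) : Set G) ≤ C[x] :=
        fun u hu => mem_centralizer_zpowers.1 hu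
      have hN : C[x] ≤ Subgroup.normalizer ((Subgroup.zpowers x : Subgroup G) : Set G) := fun u hu =>
        Subgroup.centralizer_le_normalizer _ (mem_centralizer_zpowers.2 hu)
      have hd := inducedBlockDefined_of_brauer hM (zpowers_isPGroup hx)
        (Subgroup.zpowers_le.2 (Subgroup.mem_centralizer_singleton_iff.2 rfl)) hC' hN hb₀B
      rw [← isInduced_unique hM hi ((third_main hM hd).2 rfl)]
      exact mem_blockOf_self hM χ
    rw [blockPart_eq_kernel] at hzero
    have hK : ∀ c : C[x], blockKernelAt b₀ 1 c =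
        if c ∈ θ then blockKernelAt b₀ 1 1 else 0 := by
      intro c
      split
      · next h =>
        simp only [blockKernelAt]
        congr 1
        refine finsum_mem_congr rfl fun η hη => ?_
        rw [(hmem η).1 hη c h]
      · next h =>
        refine blockKernelAt_singular hM hb₀B (hreg 1 θ.one_mem) ?_
        by_contra hc
        exact h (mem_of_regular hM.1 hidx hc)
    rw [Finset.sum_congr rfl fun c _ => by rw [hK c, ite_mul, zero_mul]] at hzero
    rw [← Finset.sum_filter, ← Finset.mul_sum] at hzero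
    have hne : blockKernelAt b₀ (1 : C[x]) 1 ≠ 0 := by
      rw [blockKernelAt_eq_sum]
      refine mul_ne_zero (inv_ne_zero natCard_ne_zero) ?_
      have hpos : (0 : ℝ) < ∑ ξ : Cfsg.IrrCharacter C[x],
          if ξ ∈ b₀ then ‖(ξ : C[x] → ℂ) 1‖ ^ 2 else 0 := by
        refine Finset.sum_pos' (fun ξ _ => by split <;> positivity)
          ⟨trivIrr C[x], Finset.mem_univ _, ?_⟩
        rw [if_pos (trivIrr_mem_principal hM)]
        simp [trivIrr]
      intro h
      have e : ((∑ ξ : Cfsg.IrrCharacter C[x],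
          if ξ ∈ b₀ then ‖(ξ : C[x] → ℂ) 1‖ ^ 2 else 0 : ℝ) : ℂ) = 0 := by
        rw [Complex.ofReal_sum, ← h]
        refine Finset.sum_congr rfl fun ξ _ => ?_
        split
        · rw [Complex.mul_conj', Complex.ofReal_pow]
        · exact Complex.ofReal_zero
      rw [Complex.ofReal_eq_zero] at e
      exact hpos.ne' e
    have h := (mul_eq_zero.1 hzero).resolve_left hne
    rw [← h]
    exact (Finset.sum_subtype (Finset.univ.filter fun c => c ∈ θ) (by simp) f).symm

open scoped Classical in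
/-- A class function summed over the elements whose p-part is conjugate to `x`. -/
theorem sum_section_conj [Fintype G] (hp : p.Prime) {x : G} (hx : ∃ k : ℕ, orderOf x = p ^ k)
    {θ : Subgroup (C[x])} [θ.Normal] [Fintype θ]
    (hθ : ¬ p ∣ Nat.card θ) (hidx : ∃ k : ℕ, θ.index = p ^ k)
    {φ : G → ℂ} (hφ : Cfsg.IsClassFunction G φ) :
    (Nat.card (C[x]) : ℂ) *
        ∑ g : G, (if ∃ u, Cfsg.IsPPart p g u ∧ IsConj x u then φ g else 0) =
      (Nat.card G : ℂ) * ∑ k : θ, φ (x * ((k : C[x]) : G)) := by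
  haveI : Fact p.Prime := ⟨hp⟩
  have hxc : ∀ c : C[x], Commute x (c : G) := fun c => Subgroup.mem_centralizer_iff.1 c.2 x rfl
  have hreg : ∀ k : θ, ¬ p ∣ orderOf ((k : C[x]) : G) := fun k hd => hθ (hd.trans (by
    rw [Subgroup.orderOf_coe, Subgroup.orderOf_coe]; exact orderOf_dvd_natCard k))
  set f : G × θ → G := fun a => a.1 * (x * ((a.2 : C[x]) : G)) * a.1⁻¹ with hf
  have hpp : ∀ a : G × θ, Cfsg.IsPPart p (f a) (a.1 * x * a.1⁻¹) := by
    intro a
    refine ⟨a.1 * ((a.2 : C[x]) : G) * a.1⁻¹, by simp only [hf]; group,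
      (hxc (a.2 : C[x])).map (MulAut.conj a.1).toMonoidHom, ?_, ?_⟩
    · obtain ⟨k, hk⟩ := hx
      exact ⟨k, by rw [← hk]; exact MulEquiv.orderOf_eq (MulAut.conj a.1) x⟩
    · rw [show orderOf (a.1 * ((a.2 : C[x]) : G) * a.1⁻¹) = orderOf ((a.2 : C[x]) : G) from
        MulEquiv.orderOf_eq (MulAut.conj a.1) _]
      exact hreg a.2
  have hfib : ∀ g : G, ((Finset.univ.filter fun a => f a = g).card : ℂ) =
      if ∃ u, Cfsg.IsPPart p g u ∧ IsConj x u then (Nat.card C[x] : ℂ) else 0 := by
    intro g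
    split
    · next h =>
      obtain ⟨u, hu, hconj⟩ := h
      obtain ⟨a, rfl⟩ := isConj_iff.1 hconj
      obtain ⟨y, hy1, hy2, -, hy4⟩ := hu
      have hk : a⁻¹ * y * a ∈ C[x] := by
        refine Subgroup.mem_centralizer_singleton_iff.2 ?_
        calc a⁻¹ * y * a * x = a⁻¹ * (y * (a * x * a⁻¹)) * a := by group
          _ = a⁻¹ * ((a * x * a⁻¹) * y) * a := by rw [hy2.eq]
          _ = x * (a⁻¹ * y * a) := by group
      have hkθ : (⟨_, hk⟩ : C[x]) ∈ θ := by
        refine mem_of_regular hp hidx ?_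
        rw [Subgroup.orderOf_mk, show a⁻¹ * y * a = MulAut.conj a⁻¹ y by simp, MulEquiv.orderOf_eq]
        exact hy4
      set k₀ : θ := ⟨_, hkθ⟩ with hk₀
      have hg : f (a, k₀) = g := by simp only [hf, hk₀, ← hy1]; group
      rw [Nat.cast_inj, ← Fintype.card_coe, ← Nat.card_eq_fintype_card]
      have hc : ∀ b : G × θ, f b = g → a⁻¹ * b.1 ∈ C[x] := by
        intro b hb
        have h := ppart_unique hp (hb ▸ hpp b) (hg ▸ hpp (a, k₀))
        refine Subgroup.mem_centralizer_singleton_iff.2 ?_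
        calc a⁻¹ * b.1 * x = a⁻¹ * (b.1 * x * b.1⁻¹) * b.1 := by group
          _ = a⁻¹ * (a * x * a⁻¹) * b.1 := by rw [h]
          _ = x * (a⁻¹ * b.1) := by group
      refine Nat.card_congr (Equiv.ofBijective
        (fun b : {b // b ∈ Finset.univ.filter fun b => f b = g} =>
          (⟨a⁻¹ * b.1.1, hc b.1 (Finset.mem_filter.1 b.2).2⟩ : C[x])) ⟨?_, ?_⟩)
      · rintro ⟨⟨b1, b2⟩, hb⟩ ⟨⟨d1, d2⟩, hd⟩ he
        obtain rfl : b1 = d1 := mul_left_cancel (Subtype.ext_iff.1 he)
        have h := (Finset.mem_filter.1 hb).2.trans (Finset.mem_filter.1 hd).2.symm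
        simp only [hf, mul_left_inj, mul_right_inj] at h
        obtain rfl : b2 = d2 := Subtype.ext (Subtype.ext h)
        rfl
      · intro c
        refine ⟨⟨(a * (c : G), ⟨c⁻¹ * (k₀ : C[x]) * c, by
          simpa using Subgroup.Normal.conj_mem ‹θ.Normal› _ k₀.2 c⁻¹⟩),
          Finset.mem_filter.2 ⟨Finset.mem_univ _, ?_⟩⟩, Subtype.ext (by simp)⟩
        rw [← hg]
        simp only [hf, Subgroup.coe_mul, Subgroup.coe_inv]
        calc a * (c : G) * (x * ((c : G)⁻¹ * ((k₀ : C[x]) : G) * c)) * (a * c)⁻¹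
            = a * ((c : G) * x * (c : G)⁻¹ * ((k₀ : C[x]) : G)) * a⁻¹ := by group
          _ = _ := by rw [← (hxc c).eq, mul_inv_cancel_right]
    · next h =>
      rw [Nat.cast_eq_zero, Finset.card_eq_zero, Finset.filter_eq_empty_iff]
      intro a _ ha
      exact h ⟨_, ha ▸ hpp a, isConj_iff.2 ⟨a.1, rfl⟩⟩
  calc (Nat.card C[x] : ℂ) * ∑ g : G, (if ∃ u, Cfsg.IsPPart p g u ∧ IsConj x u then φ g else 0)
      = ∑ g : G, ((Finset.univ.filter fun a => f a = g).card : ℂ) * φ g := by
        rw [Finset.mul_sum]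
        refine Finset.sum_congr rfl fun g _ => ?_
        rw [hfib g]; split <;> simp
    _ = ∑ a : G × θ, φ (f a) := by
        rw [← Finset.sum_fiberwise Finset.univ f]
        refine Finset.sum_congr rfl fun g _ => ?_
        rw [Finset.sum_congr rfl (fun a ha => by rw [(Finset.mem_filter.1 ha).2]),
          Finset.sum_const, nsmul_eq_mul]
    _ = _ := by
        rw [Fintype.sum_prod_type, Finset.sum_comm, Finset.mul_sum]
        refine Finset.sum_congr rfl fun k _ => ?_
        rw [Finset.sum_congr rfl fun g _ => (hφ _ g : φ (g * _ * g⁻¹) = _)]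
        simp only [Finset.sum_const, Finset.card_univ, Nat.card_eq_fintype_card, nsmul_eq_mul]

end Cfsg.Agent.Components.PairCount
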