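import Mathlib
import Cfsg.Prelude.Def_Local
import Cfsg.Agent.Lib.PLocal.PSolvable
import Cfsg.Agent.Lib.PLocal.Cores

/-!
Pairs of elements of order p generating p-solvable subgroups, for an abelian Sylow p-subgroup.
-/

set_option autoImplicit false
set_option linter.all false

namespace Cfsg.Agent.Components.PairCount

open Subgroup Cfsg.Agent.PLocal.Cores Cfsg.Agent.PLocal

variable {G : Type*} [Group G] [Finite G] {p : ℕ} [hp : Fact p.Prime]

/-- If `a b` and `a b^m` have order prime to `p`, then `b ^ m = b`. -/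
theorem pow_eq_self_of_pair (P : Sylow p G) (hab : IsMulCommutative (P : Subgroup G)) {a b : G}
    (ha : orderOf a = p) (hb : orderOf b = p)
    (hsol : Cfsg.IsPSolvable p ↥(Subgroup.closure ({a, b} : Set G))) (m : ℕ)
    (h1 : ¬ p ∣ orderOf (a * b)) (h2 : ¬ p ∣ orderOf (a * b ^ m)) : b ^ m = b := by
  set H := Subgroup.closure ({a, b} : Set G) with hH
  set K := Cfsg.pPrimeCore p ↥H with hK
  haveI : K.Normal := pPrimeCore_normal'
  set π := QuotientGroup.mk' K with hπ
  have hπs := QuotientGroup.mk'_surjective K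
  -- p-subgroups of the quotient are commutative
  obtain ⟨T⟩ := (inferInstance : Nonempty (Sylow p ↥H))
  have hTc : ∀ s ∈ (T : Subgroup ↥H), ∀ t ∈ (T : Subgroup ↥H), s * t = t * s := by
    obtain ⟨Q, hQ⟩ := (T.isPGroup'.map H.subtype).exists_le_sylow
    obtain ⟨g, hg⟩ := MulAction.exists_smul_eq G P Q
    intro s hs t ht
    have key : ∀ z ∈ (Q : Subgroup G), g⁻¹ * z * g ∈ (P : Subgroup G) := fun z hz => by
      rw [← hg, Sylow.coe_subgroup_smul, Subgroup.mem_pointwise_smul_iff_inv_smul_mem] at hz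
      simpa [MulAut.smul_def] using hz
    have h := congrArg Subtype.val (hab.1.1
      ⟨_, key _ (hQ (mem_map_of_mem H.subtype hs))⟩ ⟨_, key _ (hQ (mem_map_of_mem H.subtype ht))⟩)
    simp only [Subgroup.coe_mul, Subgroup.coe_subtype] at h
    refine Subtype.ext ?_
    simp only [Subgroup.coe_mul]
    calc (s : G) * t = g * (g⁻¹ * s * g * (g⁻¹ * t * g)) * g⁻¹ := by group
      _ = g * (g⁻¹ * t * g * (g⁻¹ * s * g)) * g⁻¹ := by rw [h]
      _ = (t : G) * s := by group
  set S := T.mapSurjective hπs with hS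
  have hSc : ∀ s ∈ (S : Subgroup (↥H ⧸ K)), ∀ t ∈ (S : Subgroup (↥H ⧸ K)), s * t = t * s := by
    rintro _ ⟨s, hs, rfl⟩ _ ⟨t, ht, rfl⟩
    rw [← map_mul, ← map_mul, hTc s hs t ht]
  have hO : (S : Subgroup (↥H ⧸ K)) ≤ Cfsg.pCore p (↥H ⧸ K) := by
    refine le_trans (fun s hs => ?_) (PSolvable.centralizer_pCore_le pPrimeCore_quotient_pPrimeCore
      (PSolvable.subgroup (PSolvable.quotient hsol K) _))
    exact mem_centralizer_iff.mpr fun t ht => hSc t (pCore_le_sylow S ht) s hs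
  have hmemO : ∀ z : ↥H, orderOf (z : G) = p → π z ∈ Cfsg.pCore p (↥H ⧸ K) := by
    intro z hz
    have hzp : IsPGroup p (zpowers (π z)) := by
      have hd : orderOf (π z) ∣ p := by
        rw [← hz, Subgroup.orderOf_coe]; exact orderOf_map_dvd π z
      obtain ⟨k, -, hk⟩ := (Nat.dvd_prime_pow hp.out).mp (by rwa [pow_one] : orderOf (π z) ∣ p ^ 1)
      exact IsPGroup.of_card (n := k) (by rw [Nat.card_zpowers, hk])
    obtain ⟨S', hS'⟩ := hzp.exists_le_sylow
    obtain ⟨c, hc⟩ := MulAction.exists_smul_eq (↥H ⧸ K) S S'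
    have := hS' (mem_zpowers (π z))
    rw [← hc, Sylow.coe_subgroup_smul, Subgroup.mem_pointwise_smul_iff_inv_smul_mem] at this
    have h3 := (Cfsg.Agent.PLocal.Cores.pCore_normal' (p := p)).conj_mem _ (hO this) c
    simpa [MulAut.smul_def, mul_assoc] using h3
  set a' : ↥H := ⟨a, subset_closure (Set.mem_insert _ _)⟩ with ha'
  set b' : ↥H := ⟨b, subset_closure (Set.mem_insert_of_mem _ rfl)⟩ with hb'
  have hreg : ∀ z : ↥H, ¬ p ∣ orderOf (z : G) → π z ∈ Cfsg.pCore p (↥H ⧸ K) → π z = 1 := by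
    intro z hz hzO
    obtain ⟨k, hk⟩ := IsPGroup.iff_orderOf.mp isPGroup_pCore ⟨_, hzO⟩
    rw [Subgroup.orderOf_mk] at hk
    have hd : orderOf (π z) ∣ orderOf (z : G) := by
      rw [Subgroup.orderOf_coe]; exact orderOf_map_dvd π z
    rcases Nat.eq_zero_or_pos k with h | h
    · rw [h, pow_zero] at hk; exact orderOf_eq_one_iff.mp hk
    · exact absurd ((dvd_pow_self p h.ne').trans (hk ▸ hd)) hz
  have haO := hmemO a' ha
  have hbO := hmemO b' hb
  have e1 : π a' * π b' = 1 := by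
    rw [← map_mul]
    exact hreg _ h1 (by rw [map_mul]; exact mul_mem haO hbO)
  have e2 : π a' * π b' ^ m = 1 := by
    rw [← map_pow, ← map_mul]
    exact hreg _ h2 (by rw [map_mul, map_pow]; exact mul_mem haO (pow_mem hbO m))
  have e3 : π b' ^ m = π b' ^ 1 := by
    rw [pow_one]; exact mul_left_cancel (e2.trans e1.symm)
  have hb1 : orderOf (π b') = p := by
    have hd : orderOf (π b') ∣ p := by
      have h := orderOf_map_dvd π b'
      rwa [← Subgroup.orderOf_coe b', hb] at h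
    refine ((Nat.dvd_prime hp.out).mp hd).resolve_left fun h => ?_
    have hmem : b' ∈ K := (QuotientGroup.eq_one_iff b').mp (orderOf_eq_one_iff.mp h)
    have h4 := orderOf_dvd_natCard (⟨b', hmem⟩ : K)
    rw [Subgroup.orderOf_mk, ← Subgroup.orderOf_coe b', hb] at h4
    exact not_dvd_card_pPrimeCore hp.out.ne_one h4
  rw [pow_eq_pow_iff_modEq, hb1, ← hb, ← pow_eq_pow_iff_modEq] at e3
  rwa [pow_one] at e3

/-- The number of `h` with `x · h x h⁻¹` of order prime to `p` is at most `#G / (p - 1)`. -/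
theorem card_regular_pairs (P : Sylow p G) (hab : IsMulCommutative (P : Subgroup G)) {x : G}
    (hx : orderOf x = p)
    (hconj : ∀ i : ℕ, ¬ p ∣ i → IsConj x (x ^ i))
    (hc : ∀ a b : G, orderOf a = p → orderOf b = p →
      Cfsg.IsPSolvable p ↥(Subgroup.closure ({a, b} : Set G))) :
    Nat.card {h : G // ¬ p ∣ orderOf (x * (h * x * h⁻¹))} * (p - 1) ≤ Nat.card G := by
  have hi : ∀ i : Fin (p - 1), ¬ p ∣ (i : ℕ) + 1 := fun i hd => by
    have := Nat.le_of_dvd (Nat.succ_pos _) hd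
    have := i.2
    omega
  choose t ht using fun i : Fin (p - 1) => isConj_iff.mp (hconj _ (hi i))
  have hcard : Nat.card (Fin (p - 1)) = p - 1 := by simp
  conv_lhs => rw [← hcard, ← Nat.card_prod]
  refine Nat.card_le_card_of_injective (fun a => a.1.1 * t a.2) ?_
  rintro ⟨⟨h, hh⟩, i⟩ ⟨⟨h', hh'⟩, i'⟩ he
  simp only at he
  have hord : ∀ g : G, orderOf (g * x * g⁻¹) = p := fun g =>
    (MulEquiv.orderOf_eq (MulAut.conj g) x).trans hx
  have e : (h * x * h⁻¹) ^ ((i : ℕ) + 1) = (h' * x * h'⁻¹) ^ ((i' : ℕ) + 1) := by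
    rw [conj_pow, conj_pow, ← ht i, ← ht i']
    calc h * (t i * x * (t i)⁻¹) * h⁻¹ = (h * t i) * x * (h * t i)⁻¹ := by group
      _ = (h' * t i') * x * (h' * t i')⁻¹ := by rw [he]
      _ = _ := by group
  -- `h' x h'⁻¹` is a power of `h x h⁻¹`
  have hcop : Nat.Coprime ((i' : ℕ) + 1) (orderOf (h' * x * h'⁻¹)) := by
    rw [hord]; exact (hp.out.coprime_iff_not_dvd.mpr (hi i')).symm
  obtain ⟨m, hm⟩ := exists_pow_eq_self_of_coprime hcop
  rw [← e, ← pow_mul] at hm
  have hb := pow_eq_self_of_pair P hab hx (hord h) (hc _ _ hx (hord h)) (((i : ℕ) + 1) * m) hh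
    (by rwa [hm])
  rw [hm] at hb
  rw [hb, pow_eq_pow_iff_modEq, hord] at e
  have hii : i = i' := by
    have h3 : ((i : ℕ) + 1) % p = ((i' : ℕ) + 1) % p := e
    rw [Nat.mod_eq_of_lt (by have := i.2; omega), Nat.mod_eq_of_lt (by have := i'.2; omega)] at h3
    exact Fin.ext (by omega)
  subst hii
  obtain rfl := mul_right_cancel he
  rfl

end Cfsg.Agent.Components.PairCount
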