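import Mathlib
import Cfsg.Prelude.Def_Blocks
import Cfsg.Agent.Lib.Characters.Counting
import Cfsg.Agent.Lib.Characters.Kernel

/-!
Characters of a simple group constant on the non-identity elements of an abelian subgroup; an
arithmetic inequality.
-/

set_option autoImplicit false
set_option linter.all false

namespace Cfsg.Agent.Components.PairCount

open Cfsg.Agent.Characters
open scoped ComplexConjugate

universe u

variable {G : Type u} [Group G] [Finite G]

open scoped Classical in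
/-- A non-trivial irreducible character takes an integer value `c` on `P#` and `χ 1 - c` is a positive
multiple of `#P`. -/
theorem exists_values [IsSimpleGroup G] (P : Subgroup G) (hab : IsMulCommutative P)
    {x : G} (hxP : x ∈ P) (hx1 : x ≠ 1)
    (hconj : ∀ y ∈ P, y ≠ 1 → IsConj x y) (χ : Cfsg.IrrCharacter G) (hχ : χ ≠ trivIrr G) :
    ∃ (c : ℤ) (d a : ℕ), (χ : G → ℂ) x = (c : ℂ) ∧ (χ : G → ℂ) 1 = (d : ℂ) ∧ 0 < d ∧
      1 ≤ a ∧ (d : ℤ) = c + a * (Nat.card P : ℤ) := by
  letI := Fintype.ofFinite G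
  obtain ⟨d, hd0, hd⟩ := irr_one_pos χ.2
  obtain ⟨η', hirr, hη⟩ := exists_irr_ne (G := P) (g := ⟨x, hxP⟩) (fun h => hx1 (congrArg Subtype.val h))
  set η : Cfsg.IrrCharacter P := ⟨η', hirr⟩ with hηdef
  have hη1 : (η : P → ℂ) 1 = 1 := irr_degree_one_of_comm (fun a b => hab.1.1 a b) η.2
  have hsum : ∑ g : P, conj ((η : P → ℂ) g) = 0 := by
    have h : Cfsg.classInner (trivIrr P : P → ℂ) (η : P → ℂ) = 0 := by
      rw [classInner_irr, if_neg fun e => hη (by rw [show η' = (η : P → ℂ) from rfl, ← e]; rfl)]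
    rw [classInner_def] at h
    simpa [trivIrr, natCard_ne_zero] using h
  obtain ⟨a, ha⟩ := classInner_char_nat (isCharacter_restrict P (irr_isCharacter χ)) (irr_isCharacter η)
  have key : (d : ℂ) - (χ : G → ℂ) x = (a : ℂ) * (Nat.card P : ℂ) := by
    rw [classInner_def, inv_mul_eq_iff_eq_mul₀ natCard_ne_zero] at ha
    rw [mul_comm (a : ℂ), ← ha]
    have e : ∀ g : P, (χ : G → ℂ) (g : G) * conj ((η : P → ℂ) g) =
        (χ : G → ℂ) x * conj ((η : P → ℂ) g) +
          if g = 1 then (d : ℂ) - (χ : G → ℂ) x else 0 := by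
      intro g
      split
      · next h => subst h; simp [hη1, hd]
      · next h =>
        obtain ⟨b, hb⟩ := isConj_iff.1 (hconj g g.2 fun e => h (Subtype.ext e))
        rw [← hb, irr_isClassFunction χ x b, add_zero]
    rw [Finset.sum_congr rfl fun g _ => e g, Finset.sum_add_distrib, ← Finset.mul_sum, hsum,
      Finset.sum_ite_eq', if_pos (Finset.mem_univ _)]
    simp
  refine ⟨(d : ℤ) - a * (Nat.card P : ℤ), d, a, ?_, hd, hd0, Nat.pos_of_ne_zero fun ha0 => hχ ?_,
    by ring⟩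
  · push_cast; rw [← key]; ring
  · rw [ha0, Nat.cast_zero, zero_mul, sub_eq_zero, ← hd] at key
    have hK : charKernel (χ : G → ℂ) (irr_isCharacter χ) = ⊤ :=
      ((charKernel_normal (irr_isCharacter χ)).eq_bot_or_eq_top).resolve_left fun h => hx1 (by
        have : x ∈ charKernel (χ : G → ℂ) (irr_isCharacter χ) := mem_charKernel.2 key.symm
        rw [h] at this
        exact this)
    have hconst : ∀ g : G, (χ : G → ℂ) g = (d : ℂ) := fun g => by
      rw [← hd]; exact mem_charKernel.1 (hK ▸ Subgroup.mem_top g)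
    by_contra hne
    have h : Cfsg.classInner (χ : G → ℂ) (trivIrr G : G → ℂ) = 0 := by
      rw [classInner_irr, if_neg hne]
    rw [classInner_def] at h
    simp [trivIrr, hconst, natCard_ne_zero, hd0.ne'] at h

/-- The arithmetic behind the contradiction. -/
theorem arith {ι : Type*} (s : Finset ι) (c : ι → ℤ) (d a : ι → ℕ) (q : ℕ) (hq : 3 ≤ q)
    (hodd : q ≠ 4) (hd0 : ∀ i ∈ s, 0 < d i) (ha : ∀ i ∈ s, 1 ≤ a i)
    (hda : ∀ i ∈ s, (d i : ℤ) = c i + a i * (q : ℤ))
    (hnorm : ∑ i ∈ s, (c i : ℝ) ^ 2 = (q : ℝ) - 1)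
    (horth : 1 + ∑ i ∈ s, (c i : ℝ) * (d i : ℝ) = 0)
    (hS : (q : ℝ) / 2 - 1 ≤ ∑ i ∈ s, (c i : ℝ) ^ 3 / (d i : ℝ)) : False := by
  have hc2 : ∀ i ∈ s, (c i) ^ 2 ≤ (q : ℤ) - 1 := fun i hi => by
    have h := Finset.single_le_sum (f := fun i => (c i : ℝ) ^ 2) (fun i _ => sq_nonneg _) hi
    rw [hnorm] at h
    exact_mod_cast h
  have hdpos : ∀ i ∈ s, (0 : ℝ) < d i := fun i hi => by exact_mod_cast hd0 i hi
  have hdq : ∀ i ∈ s, (c i : ℝ) + q ≤ (d i : ℝ) := fun i hi => by
    have h1 : (1 : ℤ) ≤ (a i : ℤ) := by exact_mod_cast ha i hi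
    have h3 : c i + (q : ℤ) ≤ (d i : ℤ) := by
      rw [hda i hi]; nlinarith [(Int.natCast_nonneg q)]
    exact_mod_cast h3
  rcases (by omega : q = 3 ∨ 5 ≤ q) with h3 | h5
  · subst h3
    have hcases : ∀ i ∈ s, c i = -1 ∨ c i = 0 ∨ c i = 1 := fun i hi => by
      have h := hc2 i hi
      push_cast at h
      have h1 : c i ≤ 1 := by nlinarith
      have h2 : -1 ≤ c i := by nlinarith
      omega
    have hterm : ∀ i ∈ s, (c i : ℝ) ^ 3 / (d i : ℝ) ≤ (c i : ℝ) ^ 2 / 4 := by
      intro i hi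
      have h' := hdq i hi
      have h0 := hdpos i hi
      rcases hcases i hi with h | h | h <;> rw [h] <;> push_cast
      · have : (-1 : ℝ) ^ 3 / (d i : ℝ) ≤ 0 := div_nonpos_of_nonpos_of_nonneg (by norm_num) h0.le
        linarith
      · simp
      · rw [h] at h'
        push_cast at h'
        rw [div_le_div_iff₀ h0 (by norm_num)]
        nlinarith
    have hpos : ∀ i ∈ s, 0 ≤ (c i : ℝ) * (d i : ℝ) := by
      intro i hi
      by_contra hneg
      have hlt : (c i : ℝ) ^ 3 / (d i : ℝ) < (c i : ℝ) ^ 2 / 4 := by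
        have h0 := hdpos i hi
        have hcneg : (c i : ℝ) < 0 := by nlinarith
        have : (c i : ℝ) ^ 3 / (d i : ℝ) < 0 := div_neg_of_neg_of_pos (by nlinarith [sq_pos_of_neg hcneg]) h0
        have := sq_nonneg (c i : ℝ)
        linarith
      have := Finset.sum_lt_sum hterm ⟨i, hi, hlt⟩
      rw [← Finset.sum_div, hnorm] at this
      push_cast at this hS
      linarith
    have := Finset.sum_nonneg hpos
    linarith
  · set κ : ℝ := ((q : ℝ) - 3) / (2 * (q : ℝ) - 3) with hκ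
    have hqr : (5 : ℝ) ≤ (q : ℝ) := by exact_mod_cast h5
    have hden : (0 : ℝ) < 2 * (q : ℝ) - 3 := by linarith
    have hterm : ∀ i ∈ s, (c i : ℝ) ^ 3 / (d i : ℝ) ≤ κ * (c i : ℝ) ^ 2 := by
      intro i hi
      have h0 := hdpos i hi
      have hκ0 : 0 ≤ κ := div_nonneg (by linarith) hden.le
      rcases le_or_gt (c i) 0 with hc | hc
      · have hcr : (c i : ℝ) ≤ 0 := by exact_mod_cast hc
        have : (c i : ℝ) ^ 3 / (d i : ℝ) ≤ 0 :=
          div_nonpos_of_nonpos_of_nonneg (by nlinarith [sq_nonneg (c i : ℝ)]) h0.le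
        nlinarith [sq_nonneg (c i : ℝ)]
      · have hle : c i ≤ (q : ℤ) - 3 := by
          by_contra hgt
          have h := hc2 i hi
          have h6 : (q : ℤ) - 2 ≤ c i := by omega
          have h7 : (5 : ℤ) ≤ q := by exact_mod_cast h5
          nlinarith
        have hler : (c i : ℝ) ≤ (q : ℝ) - 3 := by exact_mod_cast hle
        have hcr : (0 : ℝ) < (c i : ℝ) := by exact_mod_cast hc
        have h' := hdq i hi
        have hb : (c i : ℝ) / (d i : ℝ) ≤ κ := by
          rw [hκ, div_le_div_iff₀ h0 hden]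
          nlinarith
        calc (c i : ℝ) ^ 3 / (d i : ℝ) = (c i : ℝ) / (d i : ℝ) * (c i : ℝ) ^ 2 := by ring
          _ ≤ κ * (c i : ℝ) ^ 2 := mul_le_mul_of_nonneg_right hb (sq_nonneg _)
    have h := Finset.sum_le_sum hterm
    rw [← Finset.mul_sum, hnorm] at h
    have hlt : κ * ((q : ℝ) - 1) < (q : ℝ) / 2 - 1 := by
      rw [hκ, div_mul_eq_mul_div, div_lt_iff₀ hden]
      nlinarith
    linarith

end Cfsg.Agent.Components.PairCount
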