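import Mathlib
import Cfsg.Prelude.Def_Transfer
import Cfsg.Agent.Lib.Components.PairCount.Section
import Cfsg.Agent.Lib.Components.PairCount.Pairs
import Cfsg.Agent.Lib.Components.PairCount.Values
import Cfsg.Agent.BlockCharsA.DefectZeroVanish
import Cfsg.Agent.S0925
import Cfsg.Agent.S0947

/-!
A simple group with abelian Sylow p-subgroup, all non-identity p-elements conjugate, p-nilpotent
centralizers and p-solvable pairs has p = 2.
-/

set_option autoImplicit false
set_option linter.all false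

namespace Cfsg.Agent.Components.PairCount

open Cfsg.Agent.Characters
open scoped ComplexConjugate

universe u

variable {G : Type u} [Group G] [Finite G] [IsSimpleGroup G] {p : ℕ} [hp : Fact p.Prime]

open scoped Classical in
theorem eq_two (P : Sylow p G) (hP1 : (P : Subgroup G) ≠ ⊥)
    (hPe : Cfsg.IsElementaryAbelian p (P : Subgroup G))
    (hconj : ∀ x ∈ (P : Subgroup G), ∀ y ∈ (P : Subgroup G), x ≠ 1 → y ≠ 1 → IsConj x y)
    (hb : ∀ x ∈ (P : Subgroup G), orderOf x = p →
      Cfsg.HasNormalPComplement p ↥(Subgroup.centralizer ({x} : Set G)))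
    (hc : ∀ x y : G, orderOf x = p → orderOf y = p →
      Cfsg.IsPSolvable p ↥(Subgroup.closure ({x, y} : Set G))) : p = 2 := by
  by_contra hp2
  obtain ⟨x, hxP, hx1⟩ := ((P : Subgroup G).ne_bot_iff_exists_ne_one.mp hP1).elim
    fun y hy => (⟨y.1, y.2, fun h => hy (Subtype.ext h)⟩ : ∃ x, x ∈ (P : Subgroup G) ∧ x ≠ 1)
  have hab : IsMulCommutative (P : Subgroup G) := hPe.1
  have hord : ∀ y ∈ (P : Subgroup G), y ≠ 1 → orderOf y = p := fun y hy h1 =>
    orderOf_eq_prime (hPe.2 y hy) h1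
  have hx : orderOf x = p := hord x hxP hx1
  have hxpow : ∃ k : ℕ, orderOf x = p ^ k := ⟨1, by rw [hx, pow_one]⟩
  obtain ⟨M, hM⟩ := BlockCharsA.DefectZeroVanish.exists_modular hp.out
  -- the centralizer
  set θ := Cfsg.pPrimeCore p ↥(Subgroup.centralizer ({x} : Set G)) with hθdef
  haveI : θ.Normal := PLocal.Cores.pPrimeCore_normal'
  have hθ : ¬ p ∣ Nat.card θ := PLocal.Cores.not_dvd_card_pPrimeCore hp.out.ne_one
  have hPC : (P : Subgroup G) ≤ Subgroup.centralizer ({x} : Set G) := fun y hy =>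
    Subgroup.mem_centralizer_singleton_iff.mpr
      (congrArg Subtype.val (hab.1.1 ⟨y, hy⟩ ⟨x, hxP⟩))
  set PC : Subgroup ↥(Subgroup.centralizer ({x} : Set G)) :=
    (P : Subgroup G).subgroupOf (Subgroup.centralizer ({x} : Set G)) with hPCdef
  have hPCcard : Nat.card PC = Nat.card (P : Subgroup G) :=
    Nat.card_congr (Subgroup.subgroupOfEquivOfLe hPC).toEquiv
  have hidx : θ.index = Nat.card (P : Subgroup G) := by
    obtain ⟨P', N, hN, hNc⟩ := hb x hxP hx
    set PS : Sylow p ↥(Subgroup.centralizer ({x} : Set G)) := P.subtype hPC with hPS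
    have hPSc : Nat.card PS = Nat.card (P : Subgroup G) := by
      rw [hPS]
      exact hPCcard
    have hNi : N.index = Nat.card (P : Subgroup G) := by
      rw [hNc.symm.index_eq_card, P'.card_eq_multiplicity, ← PS.card_eq_multiplicity, hPSc]
    have hNle : N ≤ θ := by
      refine PLocal.Cores.le_pPrimeCore ((hp.out.coprime_iff_not_dvd.mpr ?_).symm)
      rw [← hNc.index_eq_card]
      exact P'.not_dvd_index
    refine le_antisymm (hNi ▸ Nat.le_of_dvd (Nat.pos_of_ne_zero N.index_ne_zero_of_finite)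
      (Subgroup.index_dvd_of_le hNle)) ?_
    obtain ⟨n, hn⟩ := IsPGroup.iff_card.mp P.isPGroup'
    refine Nat.le_of_dvd (Nat.pos_of_ne_zero θ.index_ne_zero_of_finite) ?_
    refine Nat.Coprime.dvd_of_dvd_mul_left (k := Nat.card (P : Subgroup G)) (m := Nat.card θ) ?_ ?_
    · rw [hn]; exact Nat.Coprime.pow_left n (hp.out.coprime_iff_not_dvd.mpr hθ)
    · rw [θ.card_mul_index, ← hPCcard]; exact Subgroup.card_subgroup_dvd_card PC
  obtain ⟨n, hn⟩ := IsPGroup.iff_card.mp P.isPGroup'
  obtain ⟨q, hq⟩ : ∃ q : ℕ, q = Nat.card ↥(P : Subgroup G) := ⟨_, rfl⟩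
  rw [← hq] at hn hidx
  have hidx' : ∃ k : ℕ, θ.index = p ^ k := ⟨n, hidx.trans hn⟩
  have hn0 : n ≠ 0 := by
    intro h
    rw [h, pow_zero] at hn
    exact hP1 (Subgroup.eq_bot_of_card_eq _ (hq.symm.trans hn))
  have hp3 : 3 ≤ p := by have := hp.out.two_le; omega
  have hq3 : 3 ≤ q := hn ▸ hp3.trans (Nat.le_self_pow hn0 p)
  have hq4 : q ≠ 4 := fun h => by
    have h2 : p ∣ 4 := h ▸ hn ▸ dvd_pow_self p hn0
    exact hp2 ((Nat.prime_dvd_prime_iff_eq hp.out Nat.prime_two).mp
      (hp.out.dvd_of_dvd_pow (show p ∣ 2 ^ 2 by norm_num; exact h2)))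
  letI := Fintype.ofFinite G
  haveI := Fintype.ofFinite (Cfsg.IrrCharacter G)
  letI := Fintype.ofFinite θ
  set B := Cfsg.principalBlock M G with hB
  set B' := (Finset.univ.filter fun χ : Cfsg.IrrCharacter G => χ ∈ B).erase (trivIrr G) with hB'
  have htriv : trivIrr G ∈ B := Blocks.trivIrr_mem_principal hM
  -- values
  have hvals : ∀ χ : Cfsg.IrrCharacter G, ∃ (c : ℤ) (d a : ℕ), (χ : G → ℂ) x = (c : ℂ) ∧
      (χ : G → ℂ) 1 = (d : ℂ) ∧ 0 < d ∧ (χ ≠ trivIrr G → 1 ≤ a ∧ (d : ℤ) = c + a * (q : ℤ)) := by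
    intro χ
    by_cases h : χ = trivIrr G
    · exact ⟨1, 1, 0, by simp [h, trivIrr], by simp [h, trivIrr], one_pos, fun h' => absurd h h'⟩
    · obtain ⟨c, d, a, h1, h2, h3, h4, h5⟩ := exists_values (P : Subgroup G) hab hxP hx1
        (fun y hy hy1 => hconj x hxP y hy hx1 hy1) χ h
      rw [← hq] at h5
      exact ⟨c, d, a, h1, h2, h3, fun _ => ⟨h4, h5⟩⟩
  choose c d a hc' hd' hd0 ha using hvals
  have hsplit : ∀ f : Cfsg.IrrCharacter G → ℝ,
      ∑ χ : Cfsg.IrrCharacter G, (if χ ∈ B then f χ else 0) = f (trivIrr G) + ∑ χ ∈ B', f χ := by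
    intro f
    rw [← Finset.sum_filter, hB', Finset.add_sum_erase _ f (by simpa using htriv)]
  have hc1 : c (trivIrr G) = 1 := by
    have := hc' (trivIrr G)
    simp only [trivIrr] at this
    exact_mod_cast this.symm
  have hd1 : d (trivIrr G) = 1 := by
    have := hd' (trivIrr G)
    simp only [trivIrr] at this
    exact_mod_cast this.symm
  -- norm on the section
  have hnorm : ∑ χ ∈ B', (c χ : ℝ) ^ 2 = (q : ℝ) - 1 := by
    have h := (S0947.result p M hM x hxpow hx1 1 (by
      rw [orderOf_one]; exact hp.out.not_dvd_one)).2 hidx'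
    have hfac : p ^ (Nat.card ↥(Subgroup.centralizer ({x} : Set G))).factorization p = q := by
      rw [← θ.card_mul_index, hidx, hn, Nat.factorization_mul Nat.card_pos.ne'
        (pow_ne_zero _ hp.out.ne_zero), Finsupp.add_apply, hp.out.factorization_pow,
        Finsupp.single_eq_same, Nat.factorization_eq_zero_of_not_dvd hθ, zero_add]
    rw [hfac, finsum_mem_def, finsum_eq_sum_of_fintype] at h
    simp only [Set.indicator_apply, Subgroup.coe_one, mul_one, hc', Complex.norm_intCast, sq_abs] at h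
    rw [hsplit, hc1] at h
    push_cast at h
    linarith
  -- orthogonality of the sections of `1` and `x`
  have horth : 1 + ∑ χ ∈ B', (c χ : ℝ) * (d χ : ℝ) = 0 := by
    have hpp1 : Cfsg.IsPPart p (1 : G) 1 :=
      ⟨1, one_mul _, Commute.one_left _, ⟨0, by simp⟩, by rw [orderOf_one]; exact hp.out.not_dvd_one⟩
    have hppx : Cfsg.IsPPart p x x :=
      ⟨1, mul_one _, Commute.one_right _, hxpow, by rw [orderOf_one]; exact hp.out.not_dvd_one⟩
    have hnc : ¬ IsConj x (1 : G) := fun h => hx1 (isConj_one_left.mp h)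
    have h := (S0925.result p M hM).2 x 1 x 1 hppx hpp1 hnc B (Blocks.isPBlock_principal M _)
    rw [finsum_mem_def, finsum_eq_sum_of_fintype] at h
    simp only [Set.indicator_apply, inv_one, hc', hd'] at h
    have h' : ((∑ χ : Cfsg.IrrCharacter G,
        if χ ∈ B then (c χ : ℝ) * (d χ : ℝ) else 0 : ℝ) : ℂ) = 0 := by
      rw [Complex.ofReal_sum, ← h]
      refine Finset.sum_congr rfl fun χ _ => ?_
      split <;> simp
    rw [Complex.ofReal_eq_zero, hsplit, hc1, hd1] at h'
    push_cast at h'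
    linarith
  -- the regular elements
  set r : G → ℂ := fun g => if p ∣ orderOf g then 0 else 1 with hr
  have hrcl : Cfsg.IsClassFunction G r := fun g k => by
    simp only [hr]
    rw [show orderOf (k * g * k⁻¹) = orderOf g from MulEquiv.orderOf_eq (MulAut.conj k) g]
  have hsing : ∀ g : G, p ∣ orderOf g ↔ ∃ u, Cfsg.IsPPart p g u ∧ IsConj x u := by
    intro g
    constructor
    · intro hg
      obtain ⟨u, hu⟩ := Blocks.exists_ppart hp.out g
      obtain ⟨y, hy1, -, ⟨k, hk⟩, hy4⟩ := id hu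
      have hu1 : u ≠ 1 := fun h => hy4 (by rw [h, one_mul] at hy1; rwa [hy1])
      obtain ⟨Q, hQ⟩ := (Blocks.zpowers_isPGroup (p := p) (x := u) ⟨k, hk⟩).exists_le_sylow
      obtain ⟨g', hg'⟩ := MulAction.exists_smul_eq G P Q
      have hmem := hQ (Subgroup.mem_zpowers u)
      rw [← hg', Sylow.coe_subgroup_smul, Subgroup.mem_pointwise_smul_iff_inv_smul_mem] at hmem
      have hmem' : g'⁻¹ * u * g' ∈ (P : Subgroup G) := by simpa [MulAut.smul_def] using hmem
      refine ⟨u, hu, (hconj x hxP _ hmem' hx1 ?_).trans (isConj_iff.mpr ⟨g', by group⟩)⟩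
      intro h
      exact hu1 (by rw [show u = g' * (g'⁻¹ * u * g') * g'⁻¹ by group, h]; group)
    · rintro ⟨u, ⟨y, hy1, hy2, hk, hy4⟩, hux⟩
      obtain ⟨b, hb'⟩ := isConj_iff.mp hux
      have hu : orderOf u = p := by
        rw [← hb', ← hx]; exact MulEquiv.orderOf_eq (MulAut.conj b) x
      rw [← hy1, hy2.orderOf_mul_eq_mul_orderOf_of_coprime
        (by rw [hu]; exact hp.out.coprime_iff_not_dvd.mpr hy4), hu]
      exact dvd_mul_right _ _
  have hcoef : ∀ χ : Cfsg.IrrCharacter G, Cfsg.classInner r (χ : G → ℂ) =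
      (((if χ = trivIrr G then 1 else 0) - (if χ ∈ B then (c χ : ℝ) / q else 0) : ℝ) : ℂ) := by
    intro χ
    have h1 : ∀ g : G, r g * conj ((χ : G → ℂ) g) = conj ((χ : G → ℂ) g) -
        (if ∃ u, Cfsg.IsPPart p g u ∧ IsConj x u then conj ((χ : G → ℂ) g) else 0) := by
      intro g
      simp only [hr, ← hsing]
      split <;> simp
    have h2 : (Nat.card G : ℂ)⁻¹ * ∑ g : G, conj ((χ : G → ℂ) g) = if χ = trivIrr G then 1 else 0 := by
      rw [show (if χ = trivIrr G then (1 : ℂ) else 0) =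
        Cfsg.classInner (trivIrr G : G → ℂ) (χ : G → ℂ) by rw [classInner_irr]; simp [eq_comm],
        classInner_def]
      simp [trivIrr]
    have h3 := sum_section_conj (φ := fun g => conj ((χ : G → ℂ) g)) hp.out hxpow (θ := θ) hθ hidx'
      (fun g k => by simp only; rw [irr_isClassFunction χ g k])
    rw [← map_sum, section_value hM hxpow hθ hidx' χ] at h3
    have hCcard : (Nat.card ↥(Subgroup.centralizer ({x} : Set G)) : ℂ) = (Nat.card θ : ℂ) * (q : ℂ) := by
      rw [← θ.card_mul_index, hidx, Nat.cast_mul]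
    rw [hCcard] at h3
    rw [classInner_def, Finset.sum_congr rfl fun g _ => h1 g, Finset.sum_sub_distrib, mul_sub, h2]
    push_cast
    congr 1
    · split <;> simp
    · have hθ0 : (Nat.card θ : ℂ) ≠ 0 := natCard_ne_zero
      have hq0 : (q : ℂ) ≠ 0 := by exact_mod_cast (by omega : q ≠ 0)
      have hG0 : (Nat.card G : ℂ) ≠ 0 := natCard_ne_zero
      split
      · next hmem =>
        rw [if_pos hmem, map_mul, hc' χ, map_natCast, map_intCast] at h3
        rw [inv_mul_eq_iff_eq_mul₀ hG0]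
        refine mul_left_cancel₀ (mul_ne_zero hθ0 hq0) (h3.trans ?_)
        push_cast
        field_simp
      · next hmem =>
        rw [if_neg hmem, map_zero, mul_zero] at h3
        rw [(mul_eq_zero.mp h3).resolve_left (mul_ne_zero hθ0 hq0)]
        simp
  -- counting
  set A := Nat.card {h : G // ¬ p ∣ orderOf (x * (h * x * h⁻¹))} with hA
  have hAle : A * (p - 1) ≤ Nat.card G := by
    refine card_regular_pairs P hab hx (fun i hi => hconj x hxP _ (pow_mem hxP i) hx1 ?_) hc
    exact fun h => hi (hx ▸ orderOf_dvd_of_pow_eq_one h)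
  have hAeq : (A : ℂ) = ((∑ χ : Cfsg.IrrCharacter G, ((if χ = trivIrr G then 1 else 0) -
      (if χ ∈ B then (c χ : ℝ) / q else 0)) * ((Nat.card G : ℝ) * (c χ : ℝ) * (c χ : ℝ) / (d χ : ℝ)) : ℝ) : ℂ) := by
    have h1 : (A : ℂ) = ∑ h : G, r (x * (h * x * h⁻¹)) := by
      simp only [hr]
      rw [hA, Nat.card_eq_fintype_card, Fintype.card_subtype, Finset.sum_ite]
      simp
    have h2 := classFun_eq_sum hrcl
    rw [h1, Finset.sum_congr rfl fun h _ => congrFun h2 _]
    simp only [Finset.sum_apply, Pi.smul_apply, smul_eq_mul]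
    rw [Finset.sum_comm, Complex.ofReal_sum]
    refine Finset.sum_congr rfl fun χ _ => ?_
    rw [← Finset.mul_sum, sum_mul_conjugates χ.2, hcoef χ, hc' χ, hd' χ]
    push_cast
    ring
  rw [← Complex.ofReal_natCast, Complex.ofReal_inj] at hAeq
  set S' := ∑ χ ∈ B', (c χ : ℝ) ^ 3 / (d χ : ℝ) with hS'
  have hval : (A : ℝ) = (Nat.card G : ℝ) * (1 - (1 + S') / q) := by
    rw [hAeq]
    have e : ∀ χ : Cfsg.IrrCharacter G, ((if χ = trivIrr G then 1 else 0) -
        (if χ ∈ B then (c χ : ℝ) / q else 0)) * ((Nat.card G : ℝ) * (c χ : ℝ) * (c χ : ℝ) / (d χ : ℝ)) =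
        (if χ = trivIrr G then (Nat.card G : ℝ) else 0) -
          (if χ ∈ B then (Nat.card G : ℝ) / q * ((c χ : ℝ) ^ 3 / (d χ : ℝ)) else 0) := by
      intro χ
      rw [sub_mul]
      congr 1
      · split
        · next h => subst h; rw [hc1, hd1]; push_cast; ring
        · ring
      · split <;> ring
    rw [Finset.sum_congr rfl fun χ _ => e χ, Finset.sum_sub_distrib, hsplit,
      Finset.sum_ite_eq', if_pos (Finset.mem_univ _), hc1, hd1, ← Finset.mul_sum, ← hS']
    push_cast
    ring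
  have hS : (q : ℝ) / 2 - 1 ≤ S' := by
    have h2 : A * 2 ≤ Nat.card G := le_trans (Nat.mul_le_mul_left A (by omega)) hAle
    have h3 : (A : ℝ) * 2 ≤ (Nat.card G : ℝ) := by exact_mod_cast h2
    have hG : (0 : ℝ) < (Nat.card G : ℝ) := by exact_mod_cast Nat.card_pos
    have hq0 : (0 : ℝ) < (q : ℝ) := by exact_mod_cast (by omega : 0 < q)
    rw [hval] at h3
    have h4 : (1 - (1 + S') / q) * 2 ≤ 1 :=
      le_of_mul_le_mul_left (by linarith [h3]) hG
    have h5 : (q : ℝ) / 2 ≤ 1 + S' := by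
      by_contra hlt
      have h6 := (div_lt_iff₀ hq0).mpr (by linarith : 1 + S' < 1 / 2 * (q : ℝ))
      linarith
    linarith
  exact arith B' c d a q hq3 hq4 (fun χ _ => hd0 χ)
    (fun χ hχ => (ha χ (Finset.ne_of_mem_erase hχ)).1)
    (fun χ hχ => (ha χ (Finset.ne_of_mem_erase hχ)).2) hnorm horth hS

end Cfsg.Agent.Components.PairCount
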